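import Groth.Agent.AtlasCohLib.Finiteness
import Groth.Agent.HdgLefLib.Geom
import Groth.Agent.QCohLib.Push
import Groth.Agent.MiscFlat6.AmpleGen
import Groth.Agent.MiscFlat6.TensorGG
import Groth.Agent.QCohLib.Vanishing
import Groth.Agent.AmpleThLib.Ample
import Groth.Agent.IntMultLib.Positive
import Groth.Agent.IntMultLib.Cartier
import Groth.Agent.VertChiLib.Field

/-!
# Powers of a divisor which is positive on itself are eventually globally generated
-/

set_option autoImplicit false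
set_option linter.style.haveILetI false
set_option backward.isDefEq.respectTransparency false
set_option maxHeartbeats 1000000
universe u

open CategoryTheory CategoryTheory.Limits AlgebraicGeometry TopologicalSpace Opposite
open AmpleLib AmpleThLib
open TwistLib (genSet)
open KFlatLib (pb)
open HilbPolyLib (assocIso congrLeft congrRight swapIso unitLeft)

noncomputable section

namespace EvGGLib

variable {X : Scheme.{u}}

/-- Acyclicity of the direct image from a closed subscheme. -/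
theorem sub_push (I : X.IdealSheafData) {F : X.Modules} (hF : PicF.IsInvertible F) (q : ℕ)
    (h : Subsingleton (Coh.HH I.subscheme (pb I.subschemeι F) q)) :
    Subsingleton (Coh.HH X ((Coh.push I.subschemeι).obj (pb I.subschemeι F)) q) := by
  haveI : Coh.IsQCoh (pb I.subschemeι F) := FinLFAnn.isQCoh_of_isFinLocFree
    (AmpleDevLib.isFinLocFree_of_isInvertible (AmpleDevLib.isInvertible_pb _ hF))
  obtain ⟨E⟩ := QCohLib.nonempty_HH_push I.subschemeι (pb I.subschemeι F) q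
  exact E.symm.toEquiv.subsingleton

/-- Quasi-coherent modules on affine schemes are generated by their sections. -/
theorem gg_affine [IsAffine X] (M : X.Modules) [Coh.IsQCoh M] : Curv2.IsGloballyGenerated M :=
  MiscFlat6.isGloballyGenerated_of_cancel _ fun _ q hq => MiscFlat6.eq_zero_of_affine_cover
    (fun _ : Unit => (⊤ : X.Opens)) (fun _ => isAffineOpen_top X) (fun _ => ⟨(), trivial⟩) _ q fun _ w => hq w

/-- A section whose image in a closed subscheme generates, generates. -/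
theorem mem_genSet_of_image {Z : Scheme.{u}} (i : Z ⟶ X) {M : X.Modules} (hM : PicF.IsInvertible M)
    {N : Z.Modules} (hN : PicF.IsInvertible N) (φ : M ⟶ (Scheme.Modules.pushforward i).obj N)
    (σ : Γ(M, ⊤)) (z : Z) (h : z ∈ genSet hN (φ.app ⊤ σ : Γ(N, ⊤))) : i z ∈ genSet hM σ := by
  obtain ⟨U, e, hxU, he⟩ := TwistLib.exists_genOn hM (i z)
  obtain ⟨r, hr⟩ := exists_coeff σ he
  refine ((mem_genSet_coeff hM σ he hr).ge ?_).1
  show z ∈ i ⁻¹ᵁ X.basicOpen r
  rw [Scheme.preimage_basicOpen]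
  let e' : Γ(N, i ⁻¹ᵁ U) := φ.app U e
  have h1 : i.app U r • e' = res N (le_top : i ⁻¹ᵁ U ≤ ⊤) (φ.app ⊤ σ : Γ(N, ⊤)) := by
    refine (QCohLib.app_smul φ U r e).symm.trans ?_
    rw [hr]
    exact QCohLib.app_map φ (homOfLE (le_top : U ≤ ⊤)) σ
  have h2 : GenAt N (i.app U r • e') (show z ∈ i ⁻¹ᵁ U from hxU) := by
    rw [h1]; exact (genAt_res _ _ _).2 h
  rw [Scheme.mem_basicOpen Z _ z hxU]
  let c := Z.presheaf.germ (i ⁻¹ᵁ U) z hxU (i.app U r)
  let g := N.presheaf.germ (i ⁻¹ᵁ U) z hxU e'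
  simp only [GenAt, germ_smul] at h2
  obtain ⟨d, hd⟩ := h2.2 g
  dsimp only at hd
  refine isUnit_iff_exists_inv'.mpr ⟨d, h2.1 ?_⟩
  show (d * c) • (c • g) = (1 : Z.presheaf.stalk z) • (c • g)
  rw [one_smul, mul_comm, mul_smul, hd]

/-- A map bijective on a stalk carries a generator to a generator. -/
theorem genAt_app {M N : X.Modules} (φ : M ⟶ N) {x : X}
    (hφ : Function.Bijective ((DerSch.stalkFunctor X x).map φ).hom) {W : X.Opens} {σ : Γ(M, W)} {hx : x ∈ W}
    (h : GenAt M σ hx) : GenAt N (φ.app W σ) hx := by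
  let f := ((DerSch.stalkFunctor X x).map φ).hom
  have e' : (⇑f ∘ fun c : X.presheaf.stalk x => c • M.presheaf.germ W x hx σ) =
      fun c => c • N.presheaf.germ W x hx (φ.app W σ) :=
    funext fun c => (f.map_smul c _).trans
      (congrArg (c • ·) (DerSch.stalkFunctor_map_germ x φ W hx σ))
  unfold GenAt
  rw [← e']
  exact hφ.comp h

variable {I : X.IdealSheafData} {L : X.Modules}

/-- The twisted sequences `L^m → L^(m+1) → L^(m+1)|D`. -/
theorem exists_seq (hL : PicF.IsInvertible L) (hLI : ClSub.IsInverseOf L (ClSub.idealMod I)) (m : ℕ) :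
    ∃ T : ShortComplex X.Modules, T.ShortExact ∧ Nonempty (T.X₁ ≅ CohB1.tensorPow L m) ∧
      Nonempty (T.X₂ ≅ CohB1.tensorPow L (m + 1)) ∧
      Nonempty (T.X₃ ≅ (Coh.push I.subschemeι).obj (pb I.subschemeι (CohB1.tensorPow L (m + 1)))) := by
  obtain ⟨T, hT, ⟨e₁⟩, e₂, e₃⟩ := HdgLefLib.exists_restrict_seq I
    (AmpleDevLib.isFinLocFree_of_isInvertible (AmpleThLib.tensorPow_isInvertible hL (m + 1)))
  obtain ⟨φ⟩ := hLI
  exact ⟨T, hT, ⟨e₁ ≪≫ assocIso _ _ _ ≪≫ congrRight _ φ ≪≫ swapIso _ _ ≪≫ unitLeft _⟩, e₂, e₃⟩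

/-- Outside the divisor some global section of `L` generates. -/
theorem exists_genSet_compl (hL : PicF.IsInvertible L) (hLI : ClSub.IsInverseOf L (ClSub.idealMod I)) :
    ∃ s : Γ(L, ⊤), ∀ x, x ∉ (I.support : Set X) → x ∈ genSet hL s := by
  obtain ⟨T, hT, ⟨e₁⟩, ⟨e₂⟩, ⟨e₃⟩⟩ := exists_seq hL hLI 0
  let e : CohB1.tensorPow L (0 + 1) ≅ L := unitLeft L
  let f : Coh.structureModule X ⟶ L := e₁.inv ≫ T.f ≫ e₂.hom ≫ e.hom
  refine ⟨f.app ⊤ (1 : Γ(X, ⊤)), fun x hx => ?_⟩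
  refine genAt_app f ?_ ((one_genOn (⊤ : X.Opens)).genAt trivial)
  haveI := hT.mono_f
  have h3 : Subsingleton ((DerSch.stalkFunctor X x).obj T.X₃) := by
    by_contra h
    have hx' : x ∈ CohB1.support T.X₃ := h
    rw [DevissLib.support_iso e₃] at hx'
    exact hx (I.range_subschemeι.le (DevissLib.support_push_subset I.subschemeι _ hx'))
  haveI : Subsingleton (T.map (DerSch.stalkFunctor X x)).X₃ := h3
  haveI : Epi ((DerSch.stalkFunctor X x).map T.f) :=
    (hT.exact.map (DerSch.stalkFunctor X x)).epi_f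
      ((ModuleCat.isZero_of_subsingleton _).eq_of_tgt _ _)
  haveI : IsIso ((DerSch.stalkFunctor X x).map T.f) := isIso_of_mono_of_epi _
  haveI : IsIso ((DerSch.stalkFunctor X x).map f) := by
    simp only [f, Functor.map_comp]
    infer_instance
  exact (ConcreteCategory.isIso_iff_bijective _).1 inferInstance

/-- Surjections in a sequence of finite modules over a noetherian ring are eventually injective. -/
theorem eventually_injective {A : Type u} [CommRing A] [IsNoetherianRing A] {M : ℕ → Type u}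
    [∀ n, AddCommGroup (M n)] [∀ n, Module A (M n)] [Module.Finite A (M 0)]
    (g : ∀ n, M n →ₗ[A] M (n + 1)) (hg : ∀ n, Function.Surjective (g n)) :
    ∃ n₀, ∀ n, n₀ ≤ n → Function.Injective (g n) := by
  let G : ∀ n, M 0 →ₗ[A] M n := fun n => Nat.rec LinearMap.id (fun n p => (g n).comp p) n
  have hG : ∀ n, Function.Surjective (G n) := fun n => by
    induction n with
    | zero => exact Function.surjective_id
    | succ n ih => exact (hg n).comp ih
  haveI : IsNoetherian A (M 0) := isNoetherian_of_isNoetherianRing_of_finite A (M 0)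
  obtain ⟨n₀, hn₀⟩ := monotone_stabilizes_iff_noetherian.mpr (inferInstance : IsNoetherian A (M 0))
    ⟨fun n => LinearMap.ker (G n), monotone_nat_of_le_succ fun n x hx => by
      show g n (G n x) = 0
      rw [show G n x = 0 from hx, map_zero]⟩
  refine ⟨n₀, fun n hn => (injective_iff_map_eq_zero _).2 fun y hy => ?_⟩
  obtain ⟨x, rfl⟩ := hG n y
  have h : x ∈ LinearMap.ker (G (n + 1)) := hy
  have h' : LinearMap.ker (G n) = LinearMap.ker (G (n + 1)) := (hn₀ n hn).symm.trans (hn₀ (n + 1) (by omega))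
  rw [← h'] at h
  exact h

section Seq

theorem hmap_hδ {T : ShortComplex (QCohLib.AbSh X.toTopCat)} (hT : T.ShortExact) (n : ℕ) (y : Sheaf.H T.X₃ n) :
    Sheaf.H.map T.f (n + 1) (AtlasCoh.hδ hT n y) = 0 :=
  (Abelian.Ext.comp_assoc_of_third_deg_zero ..).trans
    ((congrArg (fun e => Abelian.Ext.comp y e (add_zero (n + 1))) hT.extClass_comp).trans
      (Abelian.Ext.comp_zero ..))

variable {A : Type u} [CommRing A] (p : X ⟶ Spec (CommRingCat.of A))

theorem hmap_bijective {M N : X.Modules} (φ : M ≅ N) :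
    Function.Bijective (Sheaf.H.map ((QCohLib.toAbF X).map φ.hom) 1) := by
  refine Function.bijective_iff_has_inverse.2 ⟨Sheaf.H.map ((QCohLib.toAbF X).map φ.inv) 1, fun x => ?_, fun x => ?_⟩
  · rw [← Sheaf.H.map_comp_apply, ← Functor.map_comp, φ.hom_inv_id, CategoryTheory.Functor.map_id, Sheaf.H.map_id_apply]
  · rw [← Sheaf.H.map_comp_apply, ← Functor.map_comp, φ.inv_hom_id, CategoryTheory.Functor.map_id, Sheaf.H.map_id_apply]

/-- Global sections lift along the surjection of a sequence injective on `H¹`. -/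
theorem lift_sections {T : ShortComplex X.Modules} (hT : T.ShortExact)
    (h : Function.Injective (Sheaf.H.map ((QCohLib.toAbF X).map T.f) 1)) (τ : Γ(T.X₃, ⊤)) :
    ∃ σ : Γ(T.X₂, ⊤), T.g.app ⊤ σ = τ := by
  have hab := QCohLib.toAbF_shortExact hT
  let y := (DegPullLib.e0 T.X₃).symm τ
  have hδ : AtlasCoh.hδ hab 0 y = 0 := h (by
    rw [map_zero]
    exact hmap_hδ hab 0 y)
  obtain ⟨w, hw⟩ := AtlasCoh.hExact₃ hab 0 y hδ
  refine ⟨DegPullLib.e0 _ w, ?_⟩
  rw [← VertChiLib.e0_map]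
  exact (congrArg _ hw).trans ((DegPullLib.e0 _).apply_symm_apply τ)

/-- One step, with the isomorphisms absorbed. -/
theorem step {T : ShortComplex X.Modules} (hT : T.ShortExact) {A' B C : X.Modules} (e₁ : T.X₁ ≅ A')
    (e₂ : T.X₂ ≅ B) (e₃ : T.X₃ ≅ C) :
    (Subsingleton (Coh.HH X C 1) → Function.Surjective (AtlasCoh.hLin p (e₁.inv ≫ T.f ≫ e₂.hom) 1)) ∧
    (Function.Injective (AtlasCoh.hLin p (e₁.inv ≫ T.f ≫ e₂.hom) 1) →
      ∀ τ : Γ(C, ⊤), ∃ σ : Γ(B, ⊤), (e₂.inv ≫ T.g ≫ e₃.hom).app ⊤ σ = τ) := by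
  have hg : ∀ x, AtlasCoh.hLin p (e₁.inv ≫ T.f ≫ e₂.hom) 1 x = Sheaf.H.map ((QCohLib.toAbF X).map e₂.hom) 1
      (Sheaf.H.map ((QCohLib.toAbF X).map T.f) 1 (Sheaf.H.map ((QCohLib.toAbF X).map e₁.inv) 1 x)) := fun x => by
    show Sheaf.H.map _ 1 x = _
    rw [Functor.map_comp, Functor.map_comp, Sheaf.H.map_comp_apply, Sheaf.H.map_comp_apply]
    rfl
  refine ⟨fun hC y => ?_, fun hinj τ => ?_⟩
  · obtain ⟨y', rfl⟩ := (hmap_bijective e₂).2 y
    obtain ⟨x', hx'⟩ := AtlasCoh.hExact₂ (QCohLib.toAbF_shortExact hT) 1 y'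
      ((SerreVanLib.subsingleton_HH_of_iso e₃ 1 hC).elim _ _)
    obtain ⟨x, hx⟩ := (hmap_bijective e₁.symm).2 x'
    refine ⟨x, (hg x).trans ?_⟩
    refine Eq.trans ?_ (congrArg _ hx')
    exact congrArg _ (congrArg _ hx)
  · have h : Function.Injective (Sheaf.H.map ((QCohLib.toAbF X).map T.f) 1) := fun a b hab => by
      obtain ⟨a', rfl⟩ := (hmap_bijective e₁.symm).2 a
      obtain ⟨b', rfl⟩ := (hmap_bijective e₁.symm).2 b
      rw [hinj ((hg a').trans ((congrArg _ hab).trans (hg b').symm))]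
    obtain ⟨σ, hσ⟩ := lift_sections hT h (e₃.inv.app ⊤ τ)
    refine ⟨e₂.hom.app ⊤ σ, ?_⟩
    show e₃.hom.app ⊤ (T.g.app ⊤ (e₂.inv.app ⊤ (e₂.hom.app ⊤ σ))) = τ
    rw [show e₂.inv.app ⊤ (e₂.hom.app ⊤ σ) = σ from congrArg (fun ψ : T.X₂ ⟶ T.X₂ => ψ.app ⊤ σ) e₂.hom_inv_id, hσ]
    exact congrArg (fun ψ : C ⟶ C => ψ.app ⊤ τ) e₃.inv_hom_id

/-- The step maps between the powers. -/
theorem exists_step (hL : PicF.IsInvertible L) (hLI : ClSub.IsInverseOf L (ClSub.idealMod I)) (m : ℕ) :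
    ∃ (g : CohB1.tensorPow L m ⟶ CohB1.tensorPow L (m + 1))
      (φ : CohB1.tensorPow L (m + 1) ⟶ (Scheme.Modules.pushforward I.subschemeι).obj
        (pb I.subschemeι (CohB1.tensorPow L (m + 1)))),
      (Subsingleton (Coh.HH X ((Coh.push I.subschemeι).obj (pb I.subschemeι (CohB1.tensorPow L (m + 1)))) 1) →
        Function.Surjective (AtlasCoh.hLin p g 1)) ∧
      (Function.Injective (AtlasCoh.hLin p g 1) →
        ∀ τ : Γ(pb I.subschemeι (CohB1.tensorPow L (m + 1)), ⊤), ∃ σ, φ.app ⊤ σ = τ) := by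
  obtain ⟨T, hT, ⟨e₁⟩, ⟨e₂⟩, ⟨e₃⟩⟩ := exists_seq hL hLI m
  exact ⟨e₁.inv ≫ T.f ≫ e₂.hom, e₂.inv ≫ T.g ≫ e₃.hom, step p hT e₁ e₂ e₃⟩

end Seq

/-- If the powers of `L ≅ O(D)` are eventually acyclic and generated on `D`, they are eventually generated. -/
theorem eventually_gg {A : Type u} [CommRing A] [IsNoetherianRing A] (p : X ⟶ Spec (CommRingCat.of A))
    [IsProper p] (hL : PicF.IsInvertible L) (hLI : ClSub.IsInverseOf L (ClSub.idealMod I)) (m₁ : ℕ)
    (hD : ∀ m, m₁ ≤ m → Subsingleton (Coh.HH I.subscheme (pb I.subschemeι (CohB1.tensorPow L m)) 1) ∧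
      ∀ z, ∃ τ : Γ(pb I.subschemeι (CohB1.tensorPow L m), ⊤),
        z ∈ genSet (AmpleDevLib.isInvertible_pb _ (tensorPow_isInvertible hL m)) τ) :
    ∃ m₀, 1 ≤ m₀ ∧ ∀ m, m₀ ≤ m → Curv2.IsGloballyGenerated (CohB1.tensorPow L m) := by
  choose g φ hsurj hlift using exists_step p hL hLI
  letI := fun m => Module.compHom (Coh.HH X (CohB1.tensorPow L m) 1) (Coh.toGlobal p)
  haveI : Module.Finite A (Coh.HH X (CohB1.tensorPow L (m₁ + 0)) 1) :=
    AtlasCoh.finiteCoh_of_isProper p _ (CurvLib.isCoh_of_isInvertible (tensorPow_isInvertible hL _)) 1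
  obtain ⟨n₀, hn₀⟩ := eventually_injective (A := A) (M := fun n => Coh.HH X (CohB1.tensorPow L (m₁ + n)) 1)
    (fun n => AtlasCoh.hLin p (g (m₁ + n)) 1) fun n =>
      hsurj _ (sub_push I (tensorPow_isInvertible hL (m₁ + n + 1)) 1 (hD _ (by omega)).1)
  obtain ⟨s, hs⟩ := exists_genSet_compl hL hLI
  refine ⟨m₁ + n₀ + 1, by omega, fun m hm => ?_⟩
  obtain ⟨n, rfl⟩ : ∃ n, m = m₁ + n + 1 := ⟨m - m₁ - 1, by omega⟩
  have hM := tensorPow_isInvertible hL (m₁ + n + 1)
  refine MiscFlat6.isGloballyGenerated_of_genSections hM fun x => ?_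
  by_cases hx : x ∈ (I.support : Set X)
  · obtain ⟨z, rfl⟩ := I.range_subschemeι.ge hx
    obtain ⟨τ, hτ⟩ := (hD (m₁ + n + 1) (by omega)).2 z
    obtain ⟨σ, hσ⟩ := hlift _ (hn₀ n (by omega)) τ
    exact ⟨σ, mem_genSet_of_image _ hM (AmpleDevLib.isInvertible_pb _ hM) (φ _) σ z (by rwa [hσ])⟩
  · exact ⟨pS s (m₁ + n + 1), (AmpleThLib.genSet_pS hL s (by omega)).ge (hs x hx)⟩

end EvGGLib
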